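import Cfsg.Agent.EqLemmas
import Cfsg.Agent.Lib.Transvect.Symp

/-! Orthogonal groups are maximal in symplectic groups, in dimension at least four. -/

set_option autoImplicit false
set_option linter.unusedSimpArgs false
set_option linter.unusedVariables false
set_option linter.unusedSectionVars false
open Cfsg

namespace Cfsg.Agent.SpFourMax

open Cfsg.Agent.Transvect
open scoped MatrixGroups

variable {F : Type*} [Field F]
variable {ι : Type} [Fintype ι] [DecidableEq ι] {f : (ι → F) → (ι → F) → F} {Q : (ι → F) → F}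

/-- A non-singular vector orthogonal to a hyperbolic pair. -/
lemma exists_ns2 (hf : Cfsg.Geo.IsSymplecticForm f)
    (hpol : ∀ u v, QuadraticMap.polar Q u v = f u v) (hn : 3 ≤ Fintype.card ι) {a z : ι → F}
    (haz : f a z ≠ 0) : ∃ w, Q w ≠ 0 ∧ f w a = 0 ∧ f w z = 0 := by
  classical
  by_contra h
  push Not at h
  have hb := hf.bilinear
  have hza : f z a ≠ 0 := by rw [hf.skew]; exact neg_ne_zero.2 haz
  have hQ : ∀ x, f x a = 0 → f x z = 0 → Q x = 0 := fun x h1 h2 => by
    by_contra h0
    exact h x h0 h1 h2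
  set p : (ι → F) → (ι → F) :=
    fun x => x + ((-f x z / f a z) • a + (-f x a / f z a) • z) with hp
  have hpa : ∀ x, f (p x) a = 0 := fun x => by
    simp [hp, hb.add_left, hb.smul_left, hf.alternating, div_mul_cancel₀ _ hza]
  have hpz : ∀ x, f (p x) z = 0 := fun x => by
    simp [hp, hb.add_left, hb.smul_left, hf.alternating, div_mul_cancel₀ _ haz]
  have hspan : ∀ x, x ∈ Submodule.span F ({a, z} : Set (ι → F)) := by
    intro x
    by_cases hx : p x = 0
    · rw [eq_neg_of_add_eq_zero_left hx]
      exact Submodule.neg_mem _ (Submodule.mem_span_pair.2 ⟨_, _, rfl⟩)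
    · exfalso
      obtain ⟨-, y, hy⟩ := hf.nondegenerate _ hx
      apply hy
      have e1 : f (p x) (p y) = 0 := by
        rw [← hpol, QuadraticMap.polar, hQ _ (by rw [hb.add_left, hpa, hpa, add_zero])
          (by rw [hb.add_left, hpz, hpz, add_zero]), hQ _ (hpa x) (hpz x), hQ _ (hpa y) (hpz y),
          sub_zero, sub_zero]
      have e2 : f (p x) (p y) = f (p x) y := by
        simp [hp, hb.add_right, hb.smul_right]
        have c1 := hpa x
        have c2 := hpz x
        simp only [hp] at c1 c2
        rw [c1, c2, mul_zero, mul_zero, add_zero]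
      rw [← e2, e1]
  have htop : Submodule.span F (({a, z} : Finset (ι → F)) : Set (ι → F)) = ⊤ :=
    Submodule.eq_top_iff'.2 fun x => by simpa using hspan x
  have h1 := finrank_span_finset_le_card (R := F) ({a, z} : Finset (ι → F))
  rw [Set.finrank, htop, finrank_top, Module.finrank_fintype_fun_eq_card] at h1
  have h2 := Finset.card_le_two (a := a) (b := z)
  omega

/-- A non-singular vector orthogonal to a given one. -/
lemma exists_ns1 (hf : Cfsg.Geo.IsSymplecticForm f)
    (hpol : ∀ u v, QuadraticMap.polar Q u v = f u v) (hn : 3 ≤ Fintype.card ι) (u : ι → F) :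
    ∃ w, Q w ≠ 0 ∧ f w u = 0 := by
  have : Nonempty ι := Fintype.card_pos_iff.1 (by omega)
  rcases eq_or_ne u 0 with rfl | hu
  · obtain ⟨a, ha⟩ := exists_ne (0 : ι → F)
    obtain ⟨-, z, hz⟩ := hf.nondegenerate a ha
    obtain ⟨w, hw, -, -⟩ := exists_ns2 hf hpol hn hz
    exact ⟨w, hw, by rw [← flin_apply hf.bilinear]; simp⟩
  · obtain ⟨-, z, hz⟩ := hf.nondegenerate u hu
    obtain ⟨w, hw, hwu, -⟩ := exists_ns2 hf hpol hn hz
    exact ⟨w, hw, hwu⟩

theorem quadratic_maximal (hf : Cfsg.Geo.IsSymplecticForm f)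
    (hQ : Cfsg.Geo.IsNondegenerateQuadraticForm Q)
    (hpol : ∀ u v, QuadraticMap.polar Q u v = f u v) (hn : 3 ≤ Fintype.card ι) (hF : ∃ ω : F, ω ≠ 0 ∧ ω ≠ 1)
    (h2 : (2 : F) = 0) (hsq : ∀ a : F, ∃ b : F, b * b = a)
    (I : Subgroup (GL ι F)) (hI : ∀ g, g ∈ I ↔ IsIsom f g) :
    Cfsg.Geo.IsMaximalIn I (Cfsg.Geo.quadSimilarityGroup Q ⊓ I) := by
  classical
  have hb := hf.bilinear
  have hneg : ∀ x : F, -x = x := fun x => by linear_combination -x * h2
  have hsymm : ∀ x y, f x y = f y x := fun x y => by rw [hf.skew, hneg]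
  have hQadd : ∀ x y, Q (x + y) = Q x + Q y + f x y := fun x y => by
    rw [← hpol, QuadraticMap.polar]; ring
  have hQsmul : ∀ (c : F) x, Q (c • x) = c * c * Q x := fun c x => by rw [hQ.smul]; ring
  have hQst : ∀ u c x, Q (app (st hf u c) x) = Q x + f x u * f x u * (c * (c * Q u + 1)) := by
    intro u c x
    rw [st_apply, hQadd, hQsmul, hb.smul_right]; ring
  have hrH : ∀ u, st hf u (Q u)⁻¹ ∈ Cfsg.Geo.quadSimilarityGroup Q ⊓ I := fun u => by
    refine ⟨⟨1, fun x => ?_⟩, (hI _).2 (st_isIsom _ _ _)⟩
    rw [← app_apply, hQst, Units.val_one, one_mul]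
    rcases eq_or_ne (Q u) 0 with h | h
    · rw [h, inv_zero]; ring
    · rw [inv_mul_cancel₀ h]; linear_combination (f x u * f x u * (Q u)⁻¹) * h2
  refine isMaximalIn_of_forall inf_le_right ?_ ?_
  · haveI : Nonempty ι := Fintype.card_pos_iff.1 (by omega)
    obtain ⟨a, ha⟩ := exists_ne (0 : ι → F)
    obtain ⟨-, z, hz⟩ := hf.nondegenerate a ha
    obtain ⟨w, hw, hwa, hwz⟩ := exists_ns2 hf hpol hn hz
    obtain ⟨t, ht⟩ := hsq (Q a / Q w)
    have hu0 : Q (a + t • w) = 0 := by
      rw [hQadd, hQsmul, ht, hb.smul_right, hsymm, hwa, div_mul_cancel₀ _ hw]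
      linear_combination (Q a) * h2
    have hune : a + t • w ≠ 0 := fun h => by
      apply hz
      have h1 : f (a + t • w) z = f a z := by
        rw [hb.add_left, hb.smul_left, hwz, mul_zero, add_zero]
      rw [← h1, h, ← flin_apply hb, map_zero]
    refine ⟨st hf (a + t • w) 1, (hI _).2 (st_isIsom _ _ _), ?_⟩
    rintro ⟨⟨c, hc⟩, -⟩
    obtain ⟨⟨x, hx⟩, -⟩ := hf.nondegenerate _ hune
    obtain ⟨w', hw', hw'u⟩ := exists_ns1 hf hpol hn (a + t • w)
    have h1 := hc w'
    rw [← app_apply, hQst, hw'u] at h1
    have h3 : (c : F) = 1 := mul_right_cancel₀ hw' (by rw [one_mul, ← h1]; ring)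
    have h4 := hc x
    rw [← app_apply, hQst, hu0, h3, one_mul] at h4
    exact hx (mul_self_eq_zero.1 (by linear_combination h4))
  · intro M hHM hMK g hgM hgH
    have hiso : ∀ {x}, x ∈ M → IsIsom f x := fun hx => (hI _).1 (hMK hx)
    set S : Set (ι → F) := {u | st hf u 1 ∈ M} with hS
    have hS1 : ∀ u, Q u = 1 → u ∈ S := fun u hu => by
      have := hHM (hrH u)
      rwa [hu, inv_one] at this
    have hSconj : ∀ k ∈ M, ∀ u ∈ S, app k u ∈ S := fun k hk u hu => by
      show st hf (app k u) 1 ∈ M
      rw [← st_conj hf (hiso hk)]; exact mul_mem (mul_mem hk hu) (inv_mem hk)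
    have move : ∀ v v', f v v' ≠ 0 → Q v = Q v' → v ∈ S → v' ∈ S := by
      intro v v' hne he hv
      have hw : Q (v + v') = f v v' := by rw [hQadd, he]; linear_combination (Q v') * h2
      have := hSconj _ (hHM (hrH (v + v'))) v hv
      rw [st_apply, hw, hb.add_right, hf.alternating, zero_add, inv_mul_cancel₀ hne, one_smul,
        ← add_assoc] at this
      have h0 : v + v = 0 := by funext i; simp only [Pi.add_apply, Pi.zero_apply]; linear_combination (v i) * h2
      rwa [h0, zero_add] at this
    have htrans : ∀ v v', v ≠ 0 → v' ≠ 0 → Q v = Q v' → v ∈ S → v' ∈ S := by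
      intro v v' hv hv' he hvS
      by_cases hne : f v v' = 0
      · have hzmk : ∀ y α β, Q (y + α • v + β • v') = Q y + (α * α + β * β) * Q v +
            α * f y v + β * f y v' := fun y α β => by
          rw [hQadd, hQadd, hQsmul, hQsmul, hb.add_left, hb.smul_left, hb.smul_right, hb.smul_right,
            hb.smul_right, hne, he]
          ring
        have hfz : ∀ y α β, f v (y + α • v + β • v') = f v y ∧
            f (y + α • v + β • v') v' = f y v' := fun y α β => by
          constructor
          · rw [hb.add_right, hb.add_right, hb.smul_right, hb.smul_right, hf.alternating, hne,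
              mul_zero, mul_zero, add_zero, add_zero]
          · rw [hb.add_left, hb.add_left, hb.smul_left, hb.smul_left, hf.alternating, hne,
              mul_zero, mul_zero, add_zero, add_zero]
        by_cases heq : v = v'
        · exact heq ▸ hvS
        obtain ⟨y, α, β, hy1, hy2, hQy⟩ : ∃ (y : ι → F) (α β : F), f v y ≠ 0 ∧ f y v' ≠ 0 ∧
            Q (y + α • v + β • v') = Q v := by
          by_cases hQ0 : Q v = 0
          · obtain ⟨y, hy1, hy2⟩ := exists_nonorth hf hv hv'
            refine ⟨y, Q y / f y v, 0, hy1, hy2, ?_⟩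
            rw [hzmk, hQ0, div_mul_cancel₀ _ (by rwa [hsymm])]
            linear_combination (Q y) * h2
          · have key : ∀ {p p' : ι → F}, p ≠ 0 → p' ≠ 0 → p ≠ p' → Q p = Q p' → Q p' ≠ 0 →
                ∃ x, f p x = 1 ∧ f p' x = 0 := by
              intro p p' hp hp' hpp hQp hQp'
              have hnot : p ∉ F ∙ p' := fun h => by
                obtain ⟨k, hk⟩ := Submodule.mem_span_singleton.1 h
                rw [← hk, hQsmul] at hQp
                have hk2 : k * k = 1 := (mul_eq_right₀ hQp').1 hQp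
                have hk1 : k = 1 := sub_eq_zero.1 (mul_self_eq_zero.1
                  (by linear_combination hk2 + (1 - k) * h2))
                exact hpp (by rw [← hk, hk1, one_smul])
              obtain ⟨φ, hφ, hφp⟩ := exists_dual_eq_one hnot
              obtain ⟨x, rfl⟩ := flin_surjective hb hf.nondegenerate φ
              exact ⟨x, hφp, hφ p' (Submodule.mem_span_singleton_self p')⟩
            obtain ⟨x1, a1, a2⟩ := key hv hv' heq he (he ▸ hQ0)
            obtain ⟨x2, b1, b2⟩ := key hv' hv (Ne.symm heq) he.symm hQ0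
            obtain ⟨ω, hω0, hω1⟩ := hF
            set y := x1 + ω • x2
            have e1 : f v y = 1 := by rw [hb.add_right, hb.smul_right, a1, b2, mul_zero, add_zero]
            have e2 : f y v' = ω := by
              rw [hsymm, hb.add_right, hb.smul_right, a2, b1, mul_one, zero_add]
            have hne1 : f y v + f y v' ≠ 0 := by
              rw [hsymm y v, e1, e2]
              exact fun h => hω1 (by linear_combination h - h2)
            set α := (Q v + Q y) / (f y v + f y v') with hα
            refine ⟨y, α, α, by rw [e1]; exact one_ne_zero, by rw [e2]; exact hω0, ?_⟩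
            have e3 : α * (f y v + f y v') = Q v + Q y := by rw [hα, div_mul_cancel₀ _ hne1]
            rw [hzmk]
            linear_combination e3 + (Q y + α * α * Q v) * h2
        obtain ⟨z1, z2⟩ := hfz y α β
        exact move _ v' (z2 ▸ hy2) (hQy.trans he) (move v _ (z1 ▸ hy1) hQy.symm hvS)
      · exact move v v' hne he hvS
    -- a centre with a new value of Q
    obtain ⟨u, huS, hu1, hu0⟩ : ∃ u ∈ S, Q u ≠ 1 ∧ u ≠ 0 := by
      by_contra h
      push Not at h
      apply hgH
      refine ⟨⟨1, fun x => ?_⟩, hMK hgM⟩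
      rw [Units.val_one, one_mul, ← app_apply]
      have h1 : ∀ y, Q y ≠ 0 → Q (app g y) = Q y := by
        intro y hy
        obtain ⟨t, ht⟩ := hsq (Q y)⁻¹
        have h3 : Q (t • y) = 1 := by rw [hQsmul, ht, inv_mul_cancel₀ hy]
        have h4 : Q (app g (t • y)) = 1 := by
          by_contra h5
          have h6 := h _ (hSconj g hgM _ (hS1 _ h3)) h5
          rw [← map_zero (app g)] at h6
          have := (app g).injective h6
          rw [this, ← zero_smul F (0 : ι → F), hQsmul] at h3
          simp at h3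
        rw [map_smul, hQsmul, ht] at h4
        field_simp at h4
        exact h4
      by_cases hx : Q x = 0
      · obtain ⟨y, hy, hyx⟩ := exists_ns1 hf hpol hn x
        have h3 : Q (x + y) ≠ 0 := by
          rw [hQadd, hx, hsymm, hyx]; simpa using hy
        have h4 := h1 _ h3
        rw [map_add, hQadd, hQadd, hiso hgM, h1 y hy] at h4
        linear_combination h4
      · exact h1 x hx
    have hall : ∀ v, v ∈ S := by
      intro v
      rcases eq_or_ne v 0 with rfl | hv
      · show st hf 0 1 ∈ M
        exact zero_mem_centres hf M 1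
      have hd : Q u + 1 ≠ 0 := fun h => hu1 (by linear_combination h - h2)
      obtain ⟨lam, hl⟩ := hsq ((Q v + 1) / (Q u + 1))
      obtain ⟨-, z, hz⟩ := hf.nondegenerate u hu0
      obtain ⟨y, hfy⟩ : ∃ y, f u y = lam :=
        ⟨(lam / f u z) • z, by rw [hb.smul_right, div_mul_cancel₀ _ hz]⟩
      by_cases hlam : lam = 0
      · refine hS1 v ?_
        have h7 : lam * lam * (Q u + 1) = Q v + 1 := by rw [hl, div_mul_cancel₀ _ hd]
        rw [hlam] at h7
        linear_combination -h7 - h2
      obtain ⟨w, hw, hwu, hwy⟩ := exists_ns2 hf hpol hn (a := u) (z := y) (by rw [hfy]; exact hlam)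
      obtain ⟨t, ht⟩ := hsq ((1 + Q y) / Q w)
      obtain ⟨u', hu'⟩ : ∃ u', u' = y + t • w := ⟨_, rfl⟩
      have hQu' : Q u' = 1 := by
        rw [hu', hQadd, hQsmul, ht, hb.smul_right, hsymm y w, hwy, div_mul_cancel₀ _ hw]
        linear_combination (Q y) * h2
      have hfu : f u' u = lam := by
        rw [hsymm, hu', hb.add_right, hb.smul_right, hfy, hsymm u w, hwu, mul_zero, add_zero]
      have himg := hSconj _ huS u' (hS1 u' hQu')
      rw [st_apply, one_mul, hfu] at himg
      have hval : Q (u' + lam • u) = Q v := by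
        rw [hQadd, hQsmul, hb.smul_right, hQu', hfu]
        have h7 : lam * lam * (Q u + 1) = Q v + 1 := by rw [hl, div_mul_cancel₀ _ hd]
        linear_combination h7 + h2
      refine htrans _ v (fun h => ?_) hv hval himg
      have h8 : f (u' + lam • u) u = lam := by
        rw [hb.add_left, hb.smul_left, hf.alternating, mul_zero, add_zero, hfu]
      rw [h, ← flin_apply hb, map_zero] at h8
      subst h8
      rw [zero_smul, add_zero] at h
      rw [h, ← zero_smul F (0 : ι → F), hQsmul] at hQu'
      simp at hQu'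
    intro k hk
    refine isometry_mem_of_centres hf M (fun v c => ?_) ((hI k).1 hk)
    obtain ⟨t, ht⟩ := hsq c
    have h9 := hall (t • v)
    change st hf (t • v) 1 ∈ M at h9
    convert h9 using 1
    refine gl_ext fun x => ?_
    rw [st_apply, st_apply, hb.smul_right, smul_smul, one_mul, ← ht]; congr 1; ring_nf


end Cfsg.Agent.SpFourMax
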