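import Cfsg.Agent.EqLemmas
import Cfsg.Agent.Lib.AutPSp.Graph
import Cfsg.Agent.Lib.Orth.Refl
import Cfsg.Agent.Lib.SpFourMax.Quadratic

/-!
# The normaliser of a quadratic extension field in `Sp_4(2^e)` is maximal

The exceptional endomorphism carries an orthogonal group into the normaliser.
-/

set_option autoImplicit false
set_option linter.unusedSimpArgs false
set_option linter.unusedVariables false
set_option linter.unusedSectionVars false
open Cfsg Matrix

namespace Cfsg.Agent.SpFourMax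

variable {F : Type*} [Field F]

local notation "V" => (Fin 2 ⊕ Fin 2 → F)
local notation "f" => Cfsg.sympForm 2 F
local notation "Sp" => Matrix.symplecticGroup (Fin 2) F
local notation "MM" => Matrix (Fin 2 ⊕ Fin 2) (Fin 2 ⊕ Fin 2) F

/-- An element whose square is itself plus `a`. -/
def kMat (a : F) : MM := Matrix.fromBlocks !![1, a; 1, 0] 0 0 !![1, 1; a, 0]

/-- The bilinear matrix of the quadratic form. -/
def qMat (a : F) : MM := Matrix.fromBlocks !![0, 0; 0, 1] !![1, 0; 0, 1] 0 !![0, 0; 0, a]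

/-- The quadratic form. -/
def qForm (a : F) : QuadraticForm F V := (qMat a).toQuadraticForm'

theorem qForm_apply (a : F) (v : V) : qForm a v = v (.inl 0) * v (.inr 0) + v (.inl 1) * v (.inl 1) +
    v (.inl 1) * v (.inr 1) + a * (v (.inr 1) * v (.inr 1)) := by
  show Matrix.toLinearMap₂' F (qMat a) v v = _
  rw [Matrix.toLinearMap₂'_apply']
  simp [qMat, Matrix.mulVec, dotProduct, Fintype.sum_sum_type, Fin.sum_univ_two]
  ring

/-- Transport of maximality along an automorphism of the ambient subgroup. -/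
theorem maximal_transport {G : Type*} [Group G] {I H N : Subgroup G} (e : I ≃* I)
    (hH : Cfsg.Geo.IsMaximalIn I H) (hsub : ∀ h : I, (h : G) ∈ H → (e h : G) ∈ N)
    (hne : ∃ x ∈ I, x ∉ N) : Cfsg.Geo.IsMaximalIn I (N ⊓ I) := by
  obtain ⟨x, hxI, hxN⟩ := hne
  refine ⟨lt_of_le_of_ne inf_le_right fun h => hxN (h.ge hxI).1, fun M hNM hMI => ?_⟩
  let pull : Subgroup G → Subgroup G := fun M => ((M.subgroupOf I).comap e.toMonoidHom).map I.subtype
  have hpull : ∀ {M : Subgroup G} {h : I}, (h : G) ∈ pull M ↔ (e h : G) ∈ M := by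
    intro M h
    constructor
    · rintro ⟨y, hy, hyh⟩
      rw [← Subtype.ext hyh]
      exact hy
    · exact fun hm => ⟨h, hm, rfl⟩
  have hHle : ∀ {M : Subgroup G}, (∀ h : I, (e h : G) ∈ N → (e h : G) ∈ M) → H ≤ pull M :=
    fun {M} hM g hg => (hpull (h := ⟨g, hH.1.le hg⟩)).2 (hM _ (hsub _ hg))
  have hle : pull M ≤ I := by rintro _ ⟨y, -, rfl⟩; exact y.2
  have hsN : pull (N ⊓ I) = H := by
    refine (hH.2 _ (hHle fun h hh => Subgroup.mem_inf.2 ⟨hh, (e h).2⟩) (by rintro _ ⟨y, -, rfl⟩; exact y.2)).resolve_right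
      fun h => hxN ?_
    have h1 : ((e.symm ⟨x, hxI⟩ : I) : G) ∈ pull (N ⊓ I) := h.symm ▸ (e.symm ⟨x, hxI⟩).2
    simpa using (hpull.1 h1).1
  rcases hH.2 (pull M) (hHle fun h hh => hNM (Subgroup.mem_inf.2 ⟨hh, (e h).2⟩)) hle with h | h
  · refine Or.inl (le_antisymm (fun m hm => ?_) hNM)
    have h1 : ((e.symm ⟨m, hMI hm⟩ : I) : G) ∈ pull M := hpull.2 (by simpa using hm)
    rw [h, ← hsN] at h1
    simpa using hpull.1 h1
  · refine Or.inr (le_antisymm hMI fun m hm => ?_)
    have h1 : ((e.symm ⟨m, hm⟩ : I) : G) ∈ pull M := h.symm ▸ (e.symm ⟨m, hm⟩).2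
    simpa using hpull.1 h1

variable [CharP F 2]

theorem f_symm (u v : V) : f u v = f v u := by
  rw [Linear.sympForm_swap, CharTwo.neg_eq]

theorem qForm_polar (a : F) (u v : V) : QuadraticMap.polar (qForm a) u v = f u v := by
  have h2 : (2 : F) = 0 := CharTwo.two_eq_zero
  rw [QuadraticMap.polar, qForm_apply, qForm_apply, qForm_apply, AutPSp.sumForm]
  simp only [Pi.add_apply]
  linear_combination (u (.inl 0) * v (.inr 0) + u (.inl 1) * v (.inl 1) + u (.inl 1) * v (.inr 1) +
    a * (u (.inr 1) * v (.inr 1))) * h2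

theorem qForm_nondeg (a : F) : Cfsg.Geo.IsNondegenerateQuadraticForm (⇑(qForm a)) := by
  have hs := Transvect.sympForm_isSymplectic (F := F) 2
  have e : QuadraticMap.polar ⇑(qForm a) = f := funext fun u => funext fun v => qForm_polar a u v
  refine ⟨fun c v => ?_, e ▸ hs.bilinear, e ▸ hs.nondegenerate⟩
  rw [QuadraticMap.map_smul, smul_eq_mul, sq]

/-- The key identity: images of reflections induce the field automorphism. -/
theorem gmat_tv_kMat (a c : F) (v : V) (hc : c * qForm a v = 1) :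
    AutPSp.gmat (AutPSp.tv v c).1 * kMat a = (kMat a + 1) * AutPSp.gmat (AutPSp.tv v c).1 := by
  have h2 : (2 : F) = 0 := CharTwo.two_eq_zero
  have hent : ∀ i j, (AutPSp.tv v c).1 i j = (if i = j then 1 else 0) + c * f (Pi.single j 1) v * v i := by
    intro i j
    have h := congrFun (AutPSp.tv_mulVec v c (Pi.single j 1)) i
    rw [Matrix.mulVec_single_one] at h
    rw [show (AutPSp.tv v c).1 i j = _ from h]
    simp [Pi.single_apply]
  rw [qForm_apply] at hc
  refine Matrix.ext fun i j => ?_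
  rcases i with i | i <;> rcases j with j | j <;> fin_cases i <;> fin_cases j <;>
    simp only [Matrix.mul_apply, Matrix.add_apply, Fintype.sum_sum_type, Fin.sum_univ_two,
      AutPSp.gmat, Matrix.of_apply, AutPSp.minor, hent, AutPSp.gpair, kMat,
      Matrix.fromBlocks_apply₁₁, Matrix.fromBlocks_apply₁₂, Matrix.fromBlocks_apply₂₁,
      Matrix.fromBlocks_apply₂₂, AutPSp.sumForm] <;>
    simp [Matrix.one_apply, Pi.single_apply] <;>
    first
      | linear_combination (norm := (ring_nf <;> simp [h2])) (0 : F) * hc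
      | linear_combination (norm := (ring_nf <;> simp [h2])) hc

variable [Finite F]

theorem extension_maximal (hF : ∃ ω : F, ω ≠ 0 ∧ ω ≠ 1) (hsq : ∀ a : F, ∃ b : F, b * b = a)
    (K : Subalgebra F MM) (hK : Cfsg.Geo.IsFieldSubalgebra 2 K)
    (hsa : Cfsg.Geo.IsSelfAdjointFor f K) (halt : ∀ k ∈ K, ∀ v : V, f (k *ᵥ v) v = 0) :
    Cfsg.Geo.IsMaximalIn (Cfsg.spGL 2 F) (Cfsg.Geo.subalgebraNormalizer K ⊓ Cfsg.spGL 2 F) := by
  classical
  have h2 : (2 : F) = 0 := CharTwo.two_eq_zero
  have hs := Transvect.sympForm_isSymplectic (F := F) 2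
  -- a generator with `k * k = k + a`
  obtain ⟨k, a, hkK, hkk, hkn⟩ : ∃ (k : MM) (a : F), k ∈ K ∧ k * k = k + a • 1 ∧
      ∀ c : F, k ≠ c • 1 := by
    obtain ⟨k, hk, hkn⟩ : ∃ k ∈ K, ∀ c : F, k ≠ c • 1 := by
      by_contra! h
      have hle : Subalgebra.toSubmodule K ≤ F ∙ (1 : MM) := fun x hx => by
        obtain ⟨c, rfl⟩ := h x hx
        exact Submodule.mem_span_singleton.2 ⟨c, rfl⟩
      have h1 := Submodule.finrank_mono hle
      rw [Subalgebra.finrank_toSubmodule, hK.finrank_eq, finrank_span_singleton one_ne_zero] at h1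
      omega
    obtain ⟨p, q, hpq⟩ : ∃ p q : F, k * k = p • k + q • 1 := by
      let W := Submodule.span F ({k, 1} : Set MM)
      have hW : W ≤ Subalgebra.toSubmodule K :=
        Submodule.span_le.2 (Set.insert_subset hk (Set.singleton_subset_iff.2 K.one_mem))
      have hlt : F ∙ (1 : MM) < W := by
        refine lt_of_le_of_ne (Submodule.span_mono (by simp)) fun h => ?_
        obtain ⟨c, hc⟩ := Submodule.mem_span_singleton.1
          (h.ge (Submodule.subset_span (Set.mem_insert k _)))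
        exact hkn c hc.symm
      have h1 := Submodule.finrank_lt_finrank_of_lt hlt
      rw [finrank_span_singleton one_ne_zero] at h1
      have heq : W = Subalgebra.toSubmodule K := Submodule.eq_of_le_of_finrank_le hW (by
        rw [Subalgebra.finrank_toSubmodule, hK.finrank_eq]; omega)
      obtain ⟨p, q, h⟩ := Submodule.mem_span_pair.1 (heq.ge (K.mul_mem hk hk) : k * k ∈ W)
      exact ⟨p, q, h.symm⟩
    have hp : p ≠ 0 := fun hp => by
      obtain ⟨r, hr⟩ := hsq q
      have hd : k - r • 1 ≠ 0 := fun h => hkn r (sub_eq_zero.1 h)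
      have hdK : k - r • (1 : MM) ∈ K := K.sub_mem hk (K.smul_mem K.one_mem r)
      have hd2 : (k - r • (1 : MM)) * (k - r • 1) = 0 := by
        have e : (k - r • (1 : MM)) * (k - r • 1) = k * k - (2 * r) • k + (r * r) • (1 : MM) := by
          simp only [sub_mul, mul_sub, smul_mul_assoc, mul_smul_comm, one_mul, mul_one]
          module
        rw [e, hpq, hp, h2, hr, zero_mul]
        simp only [zero_smul, zero_add, sub_zero]
        rw [← add_smul, show q + q = 0 by linear_combination q * h2, zero_smul]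
      obtain ⟨y, -, hy⟩ := hK.inv _ hdK hd
      exact hd (by simpa [mul_assoc, hy] using congrArg (· * y) hd2)
    refine ⟨p⁻¹ • k, p⁻¹ * p⁻¹ * q, K.smul_mem hk _, ?_, fun c hc => hkn (p * c) ?_⟩
    · rw [smul_mul_assoc, mul_smul_comm, hpq, smul_add, smul_add, smul_smul, smul_smul, smul_smul,
        smul_smul, mul_assoc p⁻¹ p⁻¹ p, inv_mul_cancel₀ hp, mul_one]
    · rw [mul_smul, ← hc, smul_inv_smul₀ hp]
  have hmv : ∀ x : V, k *ᵥ (k *ᵥ x) = k *ᵥ x + a • x := fun x => by
    rw [Matrix.mulVec_mulVec, hkk, Matrix.add_mulVec, Matrix.smul_mulVec, Matrix.one_mulVec]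
  -- `K = F + F k`
  have hKspan : ∀ x ∈ K, ∃ p q : F, x = p • 1 + q • k := by
    have hW : Submodule.span F ({1, k} : Set MM) = Subalgebra.toSubmodule K := by
      refine Submodule.eq_of_le_of_finrank_le
        (Submodule.span_le.2 (Set.insert_subset K.one_mem (Set.singleton_subset_iff.2 hkK))) ?_
      have hlt : F ∙ (1 : MM) < Submodule.span F ({1, k} : Set MM) := by
        refine lt_of_le_of_ne (Submodule.span_mono (by simp)) fun h => ?_
        obtain ⟨c, hc⟩ := Submodule.mem_span_singleton.1 (h.ge (Submodule.subset_span (show k ∈ ({1, k} : Set MM) by simp)))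
        exact hkn c hc.symm
      have h1 := Submodule.finrank_lt_finrank_of_lt hlt
      rw [finrank_span_singleton one_ne_zero] at h1
      rw [Subalgebra.finrank_toSubmodule, hK.finrank_eq]
      omega
    intro x hx
    obtain ⟨p, q, h⟩ := Submodule.mem_span_pair.1 (hW.ge hx : x ∈ Submodule.span F ({1, k} : Set MM))
    exact ⟨p, q, h.symm⟩
  have hnoeig : ∀ (c : F) (x : V), x ≠ 0 → k *ᵥ x ≠ c • x := by
    intro c x hx h
    obtain ⟨y, hyK, hy⟩ := hK.inv (k - c • 1) (K.sub_mem hkK (K.smul_mem K.one_mem c))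
      fun h0 => hkn c (sub_eq_zero.1 h0)
    have h0 : (k - c • (1 : MM)) *ᵥ x = 0 := by
      rw [Matrix.sub_mulVec, Matrix.smul_mulVec, Matrix.one_mulVec, h, sub_self]
    have : x = 0 := by
      rw [← Matrix.one_mulVec x, ← hy, hK.comm _ (K.sub_mem hkK (K.smul_mem K.one_mem c)) _ hyK,
        ← Matrix.mulVec_mulVec, h0, Matrix.mulVec_zero]
    exact hx this
  -- the change of basis
  obtain ⟨X, hX⟩ := exists_ne (0 : V)
  have hXn : k *ᵥ X ∉ F ∙ X := fun h => by
    obtain ⟨c, hc⟩ := Submodule.mem_span_singleton.1 h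
    exact hnoeig c X hX hc.symm
  obtain ⟨φ, hφX, hφk⟩ := Transvect.exists_dual_eq_one hXn
  obtain ⟨Y, rfl⟩ := Transvect.flin_surjective hs.bilinear hs.nondegenerate φ
  have fXY : f X Y = 0 := hφX X (Submodule.mem_span_singleton_self X)
  have fkXY : f (k *ᵥ X) Y = 1 := hφk
  set col : Fin 2 ⊕ Fin 2 → V := Sum.elim ![X, k *ᵥ X + X] ![k *ᵥ Y, Y] with hcol
  set P : MM := Matrix.of fun i j => col j i with hPdef
  have hPmv : ∀ u : V, P *ᵥ u = u (.inl 0) • X + u (.inl 1) • (k *ᵥ X + X) +
      u (.inr 0) • (k *ᵥ Y) + u (.inr 1) • Y := fun u => by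
    funext i
    simp [hPdef, hcol, Matrix.mulVec, dotProduct, Fintype.sum_sum_type, Fin.sum_univ_two]
    ring
  have f1 : f X (k *ᵥ X) = 0 := by rw [f_symm]; exact halt k hkK X
  have f2 : f X (k *ᵥ Y) = 1 := by rw [← hsa k hkK, fkXY]
  have f3 : f (k *ᵥ X) (k *ᵥ Y) = 1 := by
    rw [hsa k hkK, hmv, hs.bilinear.add_right, hs.bilinear.smul_right, f2, fXY, mul_zero, add_zero]
  have f4 : f (k *ᵥ Y) Y = 0 := halt k hkK Y
  have hP : P ∈ Matrix.symplecticGroup (Fin 2) F := by
    rw [Linear.mem_symplecticGroup_iff]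
    intro u v
    simp only [hPmv, hs.bilinear.add_left, hs.bilinear.add_right, hs.bilinear.smul_left,
      hs.bilinear.smul_right, Linear.sympForm_self, fXY, fkXY, f1, f2, f3, f4,
      f_symm Y X, f_symm (k *ᵥ X) X, f_symm Y (k *ᵥ X), f_symm (k *ᵥ Y) X, f_symm (k *ᵥ Y) (k *ᵥ X),
      f_symm Y (k *ᵥ Y)]
    rw [AutPSp.sumForm]
    linear_combination (norm := (ring_nf <;> simp [h2])) (0 : F) * h2
  set g : Sp := ⟨P, hP⟩ with hgdef
  have hgk : P * kMat a = k * P := by
    refine Matrix.mulVec_injective (funext fun u => ?_)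
    rw [← Matrix.mulVec_mulVec, ← Matrix.mulVec_mulVec, hPmv, hPmv]
    simp only [Matrix.mulVec_add, Matrix.mulVec_smul, hmv]
    simp [kMat, Matrix.mulVec, dotProduct, Fintype.sum_sum_type, Fin.sum_univ_two]
    match_scalars <;> linear_combination (norm := (ring_nf <;> simp [h2])) (0 : F) * h2
  -- the automorphism
  let ψ : Sp ≃* Sp := (MulEquiv.ofBijective (AutPSp.phiHom F)
    (Finite.injective_iff_bijective.mp AutPSp.phi_injective)).trans (MulAut.conj g)
  let e : Cfsg.spGL 2 F ≃* Cfsg.spGL 2 F :=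
    ((Linear.spEquiv 2 F).symm.trans ψ).trans (Linear.spEquiv 2 F)
  refine maximal_transport (H := Cfsg.Geo.quadSimilarityGroup ⇑(qForm a) ⊓ Cfsg.spGL 2 F) e
    (quadratic_maximal hs (qForm_nondeg a) (qForm_polar a) (by simp) hF h2 hsq _
      (fun g => Transvect.mem_spGL_iff)) ?_ ?_
  · intro h hh
    -- reflections generate the orthogonal group
    have hO : ∀ x : V, qForm a (h.1.1 *ᵥ x) = qForm a x := by
      obtain ⟨⟨c, hc⟩, hI⟩ := hh
      obtain ⟨-, z, hz⟩ := hs.nondegenerate X hX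
      have e1 : f (h.1.1 *ᵥ X) (h.1.1 *ᵥ z) = c * f X z := by
        rw [← qForm_polar a, ← qForm_polar a, QuadraticMap.polar, QuadraticMap.polar,
          ← Matrix.mulVec_add, hc, hc, hc]
        ring
      have hc1 : (c : F) = 1 := mul_right_cancel₀ hz (by
        rw [one_mul, ← e1]; exact Transvect.mem_spGL_iff.1 hI X z)
      intro x
      rw [hc, hc1, one_mul]
    let hI : Orth.IsoGrp (qForm a) := ⟨h.1, fun x _ => hO x⟩
    have hsp : ∀ g : Orth.IsoGrp (qForm a), (g : GL (Fin 2 ⊕ Fin 2) F) ∈ Cfsg.spGL 2 F :=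
      fun g => Transvect.mem_spGL_iff.2 fun x y => by
        rw [← qForm_polar a, ← qForm_polar a]
        exact Orth.polar_ap g x y
    let inc : Orth.IsoGrp (qForm a) →* Cfsg.spGL 2 F :=
      { toFun := fun g => ⟨g.1, hsp g⟩, map_one' := rfl, map_mul' := fun _ _ => rfl }
    have hgen : Orth.reflGen (qForm a) ≤
        ((Cfsg.Geo.subalgebraNormalizer K).comap ((Cfsg.spGL 2 F).subtype.comp e.toMonoidHom)).comap
          inc := by
      rw [Orth.reflGen, Subgroup.closure_le]
      rintro _ ⟨v, rfl⟩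
      set c := (qForm a v)⁻¹
      by_cases hv : qForm a v = 0
      · rw [Orth.refl_eq_one (qForm a) hv]; exact one_mem _
      have hinc : (Linear.spEquiv 2 F).symm (inc (Orth.refl (qForm a) v)) = AutPSp.tv v c := by
        refine AutPSp.sp_ext fun x => ?_
        rw [AutPSp.tv_mulVec]
        show Orth.ap (Orth.refl (qForm a) v) x = _
        rw [Orth.refl_ap, qForm_polar, f_symm v x, sub_eq_add_neg, ← neg_smul, CharTwo.neg_eq]
      set T : Sp := AutPSp.phiHom F (AutPSp.tv v c)
      have hTk : T.1 * kMat a = (kMat a + 1) * T.1 := gmat_tv_kMat a c v (inv_mul_cancel₀ hv)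
      set S : Sp := g * T * g⁻¹
      have hgi : ((g⁻¹ : Sp) : MM) * P = 1 := by
        show ((g⁻¹ : Sp) : MM) * (g : MM) = 1
        rw [← Submonoid.coe_mul, inv_mul_cancel, Submonoid.coe_one]
      have hSk : S.1 * k = (k + 1) * S.1 := by
        have e0 : ((g⁻¹ : Sp) : MM) * k = kMat a * ((g⁻¹ : Sp) : MM) := by
          have hgi' : P * ((g⁻¹ : Sp) : MM) = 1 := by
            show (g : MM) * _ = 1
            rw [← Submonoid.coe_mul, mul_inv_cancel, Submonoid.coe_one]
          calc ((g⁻¹ : Sp) : MM) * k = ((g⁻¹ : Sp) : MM) * (k * P) * ((g⁻¹ : Sp) : MM) := by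
                rw [mul_assoc, mul_assoc, hgi', mul_one]
            _ = _ := by rw [← hgk, ← mul_assoc, hgi, one_mul]
        show P * T.1 * ((g⁻¹ : Sp) : MM) * k = (k + 1) * (P * T.1 * ((g⁻¹ : Sp) : MM))
        rw [mul_assoc (P * T.1), e0, ← mul_assoc, mul_assoc P, hTk]
        simp only [add_mul, one_mul, mul_add, ← mul_assoc, hgk]
      have hSS : S.1 * S.1 = 1 := by
        rw [← Submonoid.coe_mul, ← Submonoid.coe_one]
        congr 1
        show g * T * g⁻¹ * (g * T * g⁻¹) = 1
        rw [show g * T * g⁻¹ * (g * T * g⁻¹) = g * (T * T) * g⁻¹ by group]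
        show g * (AutPSp.phiHom F (AutPSp.tv v c) * AutPSp.phiHom F (AutPSp.tv v c)) * g⁻¹ = 1
        rw [← map_mul, ← AutPSp.tv_add', CharTwo.add_self_eq_zero, AutPSp.tv_zero, map_one, mul_one,
          mul_inv_cancel]
      show (e (inc (Orth.refl (qForm a) v))).1 ∈ Cfsg.Geo.subalgebraNormalizer K
      have he : e (inc (Orth.refl (qForm a) v)) = Linear.spEquiv 2 F S := by
        show Linear.spEquiv 2 F (ψ ((Linear.spEquiv 2 F).symm (inc (Orth.refl (qForm a) v)))) = _
        rw [hinc]; rfl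
      rw [he]
      have hmap : ∀ x ∈ K, S.1 * x * S.1 ∈ K := fun x hx => by
        obtain ⟨p, q, rfl⟩ := hKspan x hx
        have : S.1 * (p • (1 : MM) + q • k) * S.1 = p • (1 : MM) + q • (k + 1) := by
          rw [mul_add, add_mul, mul_smul_comm, mul_smul_comm, smul_mul_assoc, smul_mul_assoc,
            mul_one, hSS, hSk, mul_assoc, hSS, mul_one]
        rw [this]
        exact K.add_mem (K.smul_mem K.one_mem p) (K.smul_mem (K.add_mem hkK K.one_mem) q)
      have hinv : ((((Linear.spEquiv 2 F S).1)⁻¹ : GL (Fin 2 ⊕ Fin 2) F) : MM) = S.1 :=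
        Units.inv_eq_of_mul_eq_one_right hSS
      show ∀ x : MM, x ∈ K ↔ _
      intro x
      rw [Linear.spEquiv_val, hinv]
      refine ⟨hmap x, fun h => ?_⟩
      have := hmap _ h
      rwa [← mul_assoc, ← mul_assoc, hSS, one_mul, mul_assoc, hSS, mul_one] at this
    have hnd : (qForm a).polarBilin.Nondegenerate := by
      refine (LinearMap.IsRefl.nondegenerate_iff_separatingLeft fun x y h => ?_).2 fun x hx => ?_
      · show QuadraticMap.polar _ y x = 0
        rw [QuadraticMap.polar_comm]; exact h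
      · by_contra h0
        obtain ⟨-, y, hy⟩ := hs.nondegenerate x h0
        exact hy ((qForm_polar a x y).symm.trans (hx y))
    exact @hgen hI (by rw [Orth.closure_refl_eq_top hnd (Or.inl hF)]; trivial)
  · -- a transvection outside
    refine ⟨Transvect.st hs X 1, Transvect.mem_spGL_iff.2 (Transvect.st_isIsom hs X 1), fun hn => ?_⟩
    set τ := Transvect.st hs X 1
    have hinv : τ⁻¹ = τ := inv_eq_of_mul_eq_one_right (Transvect.gl_ext fun x => by
      rw [map_mul, LinearEquiv.mul_apply, Transvect.st_apply, Transvect.st_apply, map_one,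
        hs.bilinear.add_left, hs.bilinear.smul_left, Linear.sympForm_self]
      show _ = x
      match_scalars <;> linear_combination (norm := (ring_nf <;> simp [h2])) (0 : F) * h2)
    obtain ⟨p, q, hpq⟩ := hKspan _ ((hn k).1 hkK)
    rw [hinv] at hpq
    have hτ : ∀ x, (τ : MM) *ᵥ x = x + f x X • X := fun x => by
      rw [← Transvect.app_apply, Transvect.st_apply, one_mul]
    have key : ∀ x, (τ : MM) *ᵥ (k *ᵥ ((τ : MM) *ᵥ x)) = p • x + q • (k *ᵥ x) := fun x => by
      rw [Matrix.mulVec_mulVec, Matrix.mulVec_mulVec, hpq, Matrix.add_mulVec,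
        Matrix.smul_mulVec, Matrix.smul_mulVec, Matrix.one_mulVec]
    have e1 := key X
    rw [hτ X, Linear.sympForm_self, zero_smul, add_zero, hτ, f_symm, f1, zero_smul, add_zero] at e1
    have hq : q = 1 ∧ p = 0 := by
      have h0 : (1 - q) • (k *ᵥ X) = p • X := by
        rw [sub_smul, one_smul]
        nth_rw 1 [e1]
        abel
      by_cases hq : 1 - q = 0
      · exact ⟨(sub_eq_zero.1 hq).symm, by
          rw [hq, zero_smul, eq_comm, smul_eq_zero] at h0; exact h0.resolve_right hX⟩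
      · exact absurd (by rw [mul_smul, ← h0, inv_smul_smul₀ hq]) (hnoeig ((1 - q)⁻¹ * p) X hX)
    obtain ⟨z, hz⟩ : ∃ z, f z X = 1 := ⟨k *ᵥ Y, by rw [f_symm, f2]⟩
    have e2 := key z
    rw [hq.1, hq.2, zero_smul, zero_add, one_smul, hτ z, hz, one_smul, Matrix.mulVec_add, hτ,
      hs.bilinear.add_left, halt k hkK X, add_zero, add_assoc, add_eq_left] at e2
    exact hnoeig (f (k *ᵥ z) X) X hX (by
      have := eq_neg_of_add_eq_zero_left e2
      rw [this]
      funext i; simp [CharTwo.neg_eq])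

end Cfsg.Agent.SpFourMax
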